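import Groth.Prelude.Def_MeroSh
import Groth.Agent.QCoh.Stalk
import Groth.Agent.MeroMin.Regular
import Mathlib

/-!
# Meromorphic functions on an affine open with finitely many weakly associated points
-/

set_option autoImplicit false
set_option linter.style.haveILetI false
set_option backward.isDefEq.respectTransparency false
set_option backward.isDefEq.respectTransparency.types false

universe u

open CategoryTheory AlgebraicGeometry TopologicalSpace Opposite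

namespace Groth.Agent.KmodLoc

variable {X : Scheme.{u}}

/-- The image of the local ring in the ring of fractions. -/
noncomputable abbrev ι (x : X) (r : X.presheaf.stalk x) : Mero.KStalk X x := LocalizedModule.mk r 1

theorem mk_mul_ι (x : X) (a : X.presheaf.stalk x) (s : Mero.regStalk X x) :
    (LocalizedModule.mk a s : Mero.KStalk X x) * ι x s = ι x a :=
  LocalizedModule.mk_mul_mk.trans (LocalizedModule.mk_eq.mpr ⟨1, by simp [Submonoid.smul_def, mul_comm]⟩)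

theorem ι_mul (x : X) (a b : X.presheaf.stalk x) : ι x (a * b) = ι x a * ι x b :=
  ((LocalizedModule.mk_mul_mk).trans
    (congrArg (fun t : Mero.regStalk X x => LocalizedModule.mk (a * b) t) (one_mul (1 : Mero.regStalk X x)))).symm

theorem ι_one (x : X) : ι x 1 = 1 := Mero.mk_self_eq_one (1 : Mero.regStalk X x)

theorem ι_injective (x : X) : Function.Injective (ι x) := fun a b h => by
  obtain ⟨u, hu⟩ := LocalizedModule.mk_eq.mp h
  simp only [Submonoid.smul_def, smul_eq_mul, Submonoid.coe_one, one_mul] at hu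
  exact mem_nonZeroDivisors_iff_right.1 (Mero.regStalk_le_nonZeroDivisors x u.2) (a - b)
    (by rw [mul_comm, mul_sub, hu, sub_self]) |> sub_eq_zero.1

theorem ι_isUnit (x : X) (s : Mero.regStalk X x) : IsUnit (ι x s) :=
  IsUnit.of_mul_eq_one_right (LocalizedModule.mk 1 s) ((mk_mul_ι x 1 s).trans (ι_one x))

theorem ι_eq_zero {x : X} {a : X.presheaf.stalk x} (h : ι x a = 0) : a = 0 :=
  ι_injective x (h.trans (LocalizedModule.zero_mk _).symm)

variable (U : X.affineOpens)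

theorem regSub_of_nzd {f : Γ(X, U.1)} (hf : f ∈ nonZeroDivisors Γ(X, U.1)) : f ∈ Mero.regSub X U.1 :=
  MeroMin.regSub_of_nzd U.2 hf

theorem isUnit_toK {f : Γ(X, U.1)} (hf : f ∈ nonZeroDivisors Γ(X, U.1)) : IsUnit (Mero.toK X U.1 f) := by
  let b : Mero.regSub X U.1 := ⟨f, regSub_of_nzd U hf⟩
  refine IsUnit.of_mul_eq_one_right
    ⟨fun y => LocalizedModule.mk (X.presheaf.germ U.1 y.1 y.2 (1 : Γ(X, U.1))) (Mero.regGerm y b),
      fun y => ⟨U.1, y.2, 𝟙 _, 1, b, fun z => rfl⟩⟩ (Subtype.ext (funext fun y => ?_))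
  refine (mk_mul_ι y.1 _ (Mero.regGerm y b)).trans ?_
  show ι y.1 (X.presheaf.germ U.1 y.1 y.2 1) = 1
  rw [map_one]
  exact ι_one y.1

theorem toK_injective : Function.Injective (Mero.toK X U.1) := fun a b h =>
  TopCat.Presheaf.section_ext X.sheaf U.1 a b fun y hy => ι_injective y (congrFun (congrArg Subtype.val h) ⟨y, hy⟩)

variable (s : Γ(Mero.kmod X, U.1))

/-- The ideal of denominators. -/
noncomputable def denom : Ideal Γ(X, U.1) where
  carrier := {f | ∃ c, Mero.toK X U.1 f * s = Mero.toK X U.1 c}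
  add_mem' := by
    rintro a b ⟨c, hc⟩ ⟨d, hd⟩
    exact ⟨c + d, by rw [map_add, add_mul, hc, hd, map_add]⟩
  zero_mem' := ⟨0, by rw [map_zero, zero_mul]⟩
  smul_mem' := by
    rintro r a ⟨c, hc⟩
    exact ⟨r * c, by rw [smul_eq_mul, map_mul, mul_assoc, hc, map_mul]⟩

/-- Clearing a denominator which works on a basic open. -/
theorem exists_pow_mul_mem (h b' a' : Γ(X, U.1))
    (he : ∀ z (hz : z ∈ U.1), z ∈ X.basicOpen h →
      ι z (X.presheaf.germ U.1 z hz b') * s.1 ⟨z, hz⟩ = ι z (X.presheaf.germ U.1 z hz a')) :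
    ∃ N : ℕ, h ^ N * b' ∈ denom U s := by
  classical
  have hloc : ∀ y : U.1, ∃ (g : Γ(X, U.1)) (N : ℕ), y.1 ∈ X.basicOpen g ∧
      ∀ z (hz : z ∈ U.1), z ∈ X.basicOpen g →
        ι z (X.presheaf.germ U.1 z hz (h ^ N * b')) * s.1 ⟨z, hz⟩ =
          ι z (X.presheaf.germ U.1 z hz (h ^ N * a')) := by
    intro y
    obtain ⟨W, hyW, i, a₁, b₁, hw⟩ := s.2 y
    obtain ⟨g, hgW, hyg⟩ := U.2.exists_basicOpen_le ⟨y.1, hyW⟩ y.2
    let r := X.presheaf.map (homOfLE (X.basicOpen_le g)).op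
    let w := X.presheaf.map (homOfLE hgW).op
    let q : Γ(X, X.basicOpen g) := r b' * w a₁ - r a' * w b₁.1
    have hG : IsAffineOpen (X.basicOpen g) := U.2.basicOpen g
    have hres : X.presheaf.map (homOfLE (X.basicOpen_le (r h))).op q = 0 := by
      refine TopCat.Presheaf.section_ext X.sheaf _ _ _ fun z hz => ?_
      have hz' : z ∈ X.basicOpen g := X.basicOpen_le (r h) hz
      have hzh : z ∈ X.basicOpen h := by
        have := (X.basicOpen_res h (homOfLE (X.basicOpen_le g)).op).le hz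
        exact this.2
      have hzU : z ∈ U.1 := X.basicOpen_le g hz'
      change X.presheaf.germ _ z hz (X.presheaf.map (homOfLE (X.basicOpen_le (r h))).op q) = _
      rw [TopCat.Presheaf.germ_res_apply]
      have hs : s.1 ⟨z, hzU⟩ = LocalizedModule.mk (X.presheaf.germ W z (hgW hz') a₁)
          (Mero.regGerm ⟨z, hgW hz'⟩ b₁) := hw ⟨z, hgW hz'⟩
      have h1 := congrArg (· * ι z (X.presheaf.germ W z (hgW hz') b₁.1)) (he z hzU hzh)
      simp only at h1
      rw [hs, mul_assoc, mk_mul_ι z _ (Mero.regGerm ⟨z, hgW hz'⟩ b₁), ← ι_mul, ← ι_mul] at h1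
      have h2 := ι_injective z h1
      simp only [q, r, w, map_sub, map_mul, TopCat.Presheaf.germ_res_apply]
      exact (sub_eq_zero.2 h2).trans (map_zero _).symm
    haveI := hG.isLocalization_basicOpen (r h)
    obtain ⟨⟨_, N, rfl⟩, hN⟩ := (IsLocalization.map_eq_zero_iff (Submonoid.powers (r h))
      Γ(X, X.basicOpen (r h)) q).1 hres
    refine ⟨g, N, hyg, fun z hz hzg => ?_⟩
    have hs : s.1 ⟨z, hz⟩ = LocalizedModule.mk (X.presheaf.germ W z (hgW hzg) a₁)
        (Mero.regGerm ⟨z, hgW hzg⟩ b₁) := hw ⟨z, hgW hzg⟩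
    have h2 := congrArg (X.presheaf.germ (X.basicOpen g) z hzg) hN
    simp only [q, r, w, map_mul, map_sub, map_pow, map_zero, mul_sub, sub_eq_zero,
      TopCat.Presheaf.germ_res_apply] at h2
    apply (ι_isUnit z (Mero.regGerm ⟨z, hgW hzg⟩ b₁)).mul_left_injective
    show _ * s.1 ⟨z, hz⟩ * ι z (X.presheaf.germ W z (hgW hzg) b₁.1) = _ * ι z (X.presheaf.germ W z (hgW hzg) b₁.1)
    rw [hs, mul_assoc, mk_mul_ι z _ (Mero.regGerm ⟨z, hgW hzg⟩ b₁), ← ι_mul, ← ι_mul]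
    refine congrArg (ι z) ?_
    simp only [map_mul, map_pow, mul_assoc]
    exact h2
  choose g N hyg hgN using hloc
  obtain ⟨t, ht⟩ := U.2.isCompact.elim_finite_subcover (fun y : U.1 => (X.basicOpen (g y) : Set X))
    (fun y => (X.basicOpen (g y)).2) (fun z hz => Set.mem_iUnion.2 ⟨⟨z, hz⟩, hyg ⟨z, hz⟩⟩)
  refine ⟨t.sup N, h ^ t.sup N * a', Subtype.ext (funext fun z => ?_)⟩
  show ι z.1 (X.presheaf.germ U.1 z.1 z.2 (h ^ t.sup N * b')) * s.1 z = ι z.1 (X.presheaf.germ U.1 z.1 z.2 (h ^ t.sup N * a'))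
  obtain ⟨y, hyt, hy⟩ := Set.mem_iUnion₂.1 (ht z.2)
  obtain ⟨k, hk⟩ := Nat.exists_eq_add_of_le' (Finset.le_sup (f := N) hyt)
  rw [hk]
  simp only [pow_add, mul_assoc]
  rw [map_mul, map_mul _ (h ^ k), ι_mul, ι_mul, mul_assoc, hgN y z.1 z.2 hy]

theorem exists_mem_denom_not_mem {x : X} (hxU : x ∈ U.1) (hx : MeroMin.WA x) :
    ∃ f ∈ denom U s, f ∉ (U.2.primeIdealOf ⟨x, hxU⟩).asIdeal := by
  obtain ⟨W, hxW, i, a, b, hw⟩ := s.2 ⟨x, hxU⟩
  obtain ⟨h, hhW, hxh⟩ := U.2.exists_basicOpen_le ⟨x, hxW⟩ hxU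
  haveI := U.2.isLocalization_basicOpen h
  let w := X.presheaf.map (homOfLE hhW).op
  obtain ⟨⟨b', _, mb, rfl⟩, hb'⟩ := IsLocalization.surj (Submonoid.powers h) (w b.1)
  obtain ⟨⟨a', _, ma, rfl⟩, ha'⟩ := IsLocalization.surj (Submonoid.powers h) (w a)
  have gb : ∀ z (hz : z ∈ U.1) (hzh : z ∈ X.basicOpen h),
      X.presheaf.germ U.1 z hz b' = X.presheaf.germ W z (hhW hzh) b.1 * X.presheaf.germ U.1 z hz h ^ mb ∧
      X.presheaf.germ U.1 z hz a' = X.presheaf.germ W z (hhW hzh) a * X.presheaf.germ U.1 z hz h ^ ma := by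
    intro z hz hzh
    have h1 := congrArg (X.presheaf.germ (X.basicOpen h) z hzh) hb'
    have h2 := congrArg (X.presheaf.germ (X.basicOpen h) z hzh) ha'
    simp only [w, RingHom.algebraMap_toAlgebra, map_mul, map_pow, TopCat.Presheaf.germ_res_apply] at h1 h2
    exact ⟨h1.symm, h2.symm⟩
  obtain ⟨N, hN⟩ := exists_pow_mul_mem U s h (h ^ ma * b') (h ^ mb * a') fun z hz hzh => by
    obtain ⟨e1, e2⟩ := gb z hz hzh
    have hs : s.1 ⟨z, hz⟩ = LocalizedModule.mk (X.presheaf.germ W z (hhW hzh) a)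
        (Mero.regGerm ⟨z, hhW hzh⟩ b) := hw ⟨z, hhW hzh⟩
    rw [hs, map_mul, map_mul, map_pow, map_pow, e1, e2]
    have e3 := mk_mul_ι z (X.presheaf.germ W z (hhW hzh) a) (Mero.regGerm ⟨z, hhW hzh⟩ b)
    simp only [ι_mul] at e3 ⊢
    linear_combination (ι z (X.presheaf.germ U.1 z hz h ^ ma) * ι z (X.presheaf.germ U.1 z hz h ^ mb)) * e3
  refine ⟨_, hN, MeroMin.notMem_of_germ U.2 hxU hx ?_⟩
  have hu := ((X.mem_basicOpen h x hxU).1 hxh).mem_nonZeroDivisors
  rw [map_mul, map_pow, map_mul, map_pow, (gb x hxU hxh).1]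
  exact mul_mem (pow_mem hu _) (mul_mem (pow_mem hu _) (mul_mem (b.2 ⟨x, hhW hxh⟩) (pow_mem hu _)))

theorem exists_denom (hfin : {z : X | z ∈ U.1 ∧ MeroMin.WA z}.Finite) :
    ∃ (f : nonZeroDivisors Γ(X, U.1)) (c : Γ(X, U.1)),
      Mero.toK X U.1 f.1 * s = Mero.toK X U.1 c := by
  classical
  by_contra hno
  push Not at hno
  let S := hfin.toFinset.attach.image fun z =>
    (U.2.primeIdealOf ⟨z.1, (hfin.mem_toFinset.1 z.2).1⟩).asIdeal
  have hsub : (denom U s : Set Γ(X, U.1)) ⊆ ⋃ P ∈ (S : Set (Ideal Γ(X, U.1))), (P : Set Γ(X, U.1)) := by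
    intro f hf
    by_contra hf'
    obtain ⟨c, hc⟩ := hf
    refine hno ⟨f, MeroMin.nzd_of_notMem U.2 fun z hz hw hmem => hf' ?_⟩ c hc
    exact Set.mem_iUnion₂.2 ⟨_, Finset.mem_coe.2 (Finset.mem_image.2
      ⟨⟨z, hfin.mem_toFinset.2 ⟨hz, hw⟩⟩, Finset.mem_attach _ _, rfl⟩), hmem⟩
  obtain ⟨P, hP, hle⟩ := (Ideal.subset_union_prime (s := S) (f := id) ⊥ ⊥ fun P hP _ _ => by
    obtain ⟨z, -, rfl⟩ := Finset.mem_image.1 hP
    exact PrimeSpectrum.isPrime _).1 (by simpa using hsub)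
  obtain ⟨z, -, rfl⟩ := Finset.mem_image.1 hP
  obtain ⟨f, hf, hfP⟩ := exists_mem_denom_not_mem U s (hfin.mem_toFinset.1 z.2).1 (hfin.mem_toFinset.1 z.2).2
  exact hfP (hle hf)

theorem isLocalization (hfin : {z : X | z ∈ U.1 ∧ MeroMin.WA z}.Finite) :
    @IsLocalization Γ(X, U.1) _ (nonZeroDivisors Γ(X, U.1)) Γ(Mero.kmod X, U.1) _
      (Mero.toK X U.1).toAlgebra := by
  letI := (Mero.toK X U.1).toAlgebra
  refine ⟨fun f => isUnit_toK U f.2, fun s => ?_, fun {a b} h => ⟨1, ?_⟩⟩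
  · obtain ⟨f, c, hc⟩ := exists_denom U s hfin
    exact ⟨⟨c, f⟩, (mul_comm _ _).trans hc⟩
  · simp only [OneMemClass.coe_one, one_mul]
    exact toK_injective U h

end Groth.Agent.KmodLoc
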